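import Mathlib
import Groth.Prelude.Def_FDesc
import Groth.Agent.Lib.Helper2.SchDom.Main

set_option autoImplicit false
set_option backward.isDefEq.respectTransparency.types false
set_option synthInstance.maxHeartbeats 400000
set_option maxHeartbeats 4000000
set_option linter.style.haveILetI false
set_option linter.unusedSectionVars false
set_option linter.unusedVariables false
set_option linter.unusedSimpArgs false

/-!
# Base change of the reduced closed subscheme on the closure of the images of a family of
geometrically reduced schemes over a field (EGA IV 11.10.7)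
-/

open CategoryTheory CategoryTheory.Limits AlgebraicGeometry TopologicalSpace Opposite

namespace Groth.Agent.Helper2.GeomRed

universe u

/-- The reduced induced closed subscheme is reduced. -/
theorem isReduced_vanishingIdeal_subscheme {X : Scheme.{u}} (Z : TopologicalSpace.Closeds X) :
    IsReduced (Scheme.IdealSheafData.vanishingIdeal Z).subscheme := by
  haveI : ∀ i, IsReduced ((Scheme.IdealSheafData.vanishingIdeal Z).subschemeCover.openCover.X i) := by
    intro U
    change IsReduced (Spec (.of (Γ(X, U.1) ⧸ (Scheme.IdealSheafData.vanishingIdeal Z).ideal U)))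
    haveI : _root_.IsReduced (Γ(X, U.1) ⧸ (Scheme.IdealSheafData.vanishingIdeal Z).ideal U) := by
      rw [← Ideal.isRadical_iff_quotient_reduced, Scheme.IdealSheafData.vanishingIdeal_ideal]
      exact PrimeSpectrum.isRadical_vanishingIdeal _
    infer_instance
  exact IsReduced.of_openCover _ (Scheme.IdealSheafData.vanishingIdeal Z).subschemeCover.openCover

/-- A morphism from a reduced scheme with image in a closed set kills the vanishing ideal. -/
theorem vanishingIdeal_le_ker_of_isReduced {W X : Scheme.{u}} [IsReduced W] (k : W ⟶ X)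
    (C : TopologicalSpace.Closeds X) (hk : Set.range k ⊆ (C : Set X)) :
    Scheme.IdealSheafData.vanishingIdeal C ≤ k.ker := by
  unfold Scheme.Hom.ker
  rw [Scheme.IdealSheafData.le_ofIdeals_iff]
  intro U s hs
  rw [Scheme.IdealSheafData.vanishingIdeal_ideal, PrimeSpectrum.mem_vanishingIdeal] at hs
  rw [RingHom.mem_ker]
  apply eq_zero_of_basicOpen_eq_bot
  rw [← Scheme.preimage_basicOpen]
  ext w
  simp only [TopologicalSpace.Opens.coe_bot, Set.mem_empty_iff_false, iff_false]
  intro hw
  have hwU : k w ∈ U.1 := X.basicOpen_le s hw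
  have hmem : U.2.fromSpec (U.2.primeIdealOf ⟨k w, hwU⟩) ∈ (C : Set X) := by
    rw [U.2.fromSpec_primeIdealOf]
    exact hk ⟨w, rfl⟩
  have h1 := hs _ hmem
  have h2 : U.2.primeIdealOf ⟨k w, hwU⟩ ∈ U.2.fromSpec ⁻¹ᵁ X.basicOpen s := by
    change U.2.fromSpec (U.2.primeIdealOf ⟨k w, hwU⟩) ∈ X.basicOpen s
    rw [U.2.fromSpec_primeIdealOf]
    exact hw
  rw [U.2.fromSpec_preimage_basicOpen] at h2
  exact h2 h1

/-- A family of morphisms into a reduced scheme with jointly dense image is schematically
dominant. -/
theorem sd_of_dense {Y : Scheme.{u}} [IsReduced Y] {ι : Type u} (Z : ι → Scheme.{u})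
    (g : ∀ i, Z i ⟶ Y) (hd : Dense (⋃ i, Set.range (g i))) :
    ∀ (V : Y.Opens) (t : Γ(Y, V)), (∀ i, (g i).app V t = 0) → t = 0 := by
  intro V t ht
  apply eq_zero_of_basicOpen_eq_bot
  by_contra hne
  obtain ⟨y, hy⟩ : (Y.basicOpen t : Set Y).Nonempty := by
    rw [Set.nonempty_iff_ne_empty]
    intro h0
    apply hne
    ext1
    simpa using h0
  obtain ⟨y', hy'1, hy'2⟩ := hd.inter_open_nonempty _ (Y.basicOpen t).isOpen ⟨y, hy⟩
  obtain ⟨i, z, rfl⟩ := Set.mem_iUnion.mp hy'2
  have hz : z ∈ (g i) ⁻¹ᵁ Y.basicOpen t := hy'1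
  rw [Scheme.preimage_basicOpen, ht i, Scheme.basicOpen_zero] at hz
  exact hz

/-- The vanishing ideal of the closure of the images of a schematically dominant family of reduced
schemes `Z' i ⟶ Y'`, composed with `j : Y' ⟶ X'`, is contained in the kernel of `j`. -/
theorem vanishingIdeal_le_ker_of_sd {X' Y' : Scheme.{u}} (j : Y' ⟶ X') {ι : Type u}
    (Z' : ι → Scheme.{u}) [∀ i, IsReduced (Z' i)] (h : ∀ i, Z' i ⟶ Y')
    (hsd : ∀ (V : Y'.Opens) (t : Γ(Y', V)), (∀ i, (h i).app V t = 0) → t = 0) :
    Scheme.IdealSheafData.vanishingIdeal (Closeds.closure (⋃ i, Set.range (h i ≫ j))) ≤ j.ker := by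
  unfold Scheme.Hom.ker
  rw [Scheme.IdealSheafData.le_ofIdeals_iff]
  intro U s hs
  rw [RingHom.mem_ker]
  apply hsd
  intro i
  have e1 : (h i).app (j ⁻¹ᵁ U.1) (j.app U.1 s) = (h i ≫ j).app U.1 s := by
    rw [Scheme.Hom.comp_app]
    rfl
  rw [e1]
  have hle := vanishingIdeal_le_ker_of_isReduced (h i ≫ j)
    (Closeds.closure (⋃ i, Set.range (h i ≫ j)))
    (fun x hx => subset_closure (Set.mem_iUnion.mpr ⟨i, hx⟩))
  exact (Scheme.Hom.ideal_ker_le _ U) (hle U hs)

variable {k : Type u} [Field k]

/-- Base change of a scheme geometrically reduced at every point is reduced. -/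
theorem isReduced_bc {Z : Scheme.{u}} (r : Z ⟶ Spec (CommRingCat.of k))
    (hred : ∀ z : Z, FBase.IsGeomReducedAt r z) (K : Type u) [Field K] [Algebra k K] :
    IsReduced (pullback r (Spec.map (CommRingCat.ofHom (algebraMap k K)))) := by
  haveI : ∀ x : (pullback r (Spec.map (CommRingCat.ofHom (algebraMap k K))) : Scheme.{u}),
      _root_.IsReduced ((pullback r (Spec.map (CommRingCat.ofHom (algebraMap k K)))).presheaf.stalk x) :=
    fun x => hred _ K x rfl
  exact isReduced_of_isReduced_stalk _

/-- A scheme geometrically reduced at every point is reduced. -/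
theorem isReduced_of_geomRed {Z : Scheme.{u}} (r : Z ⟶ Spec (CommRingCat.of k))
    (hred : ∀ z : Z, FBase.IsGeomReducedAt r z) : IsReduced Z := by
  haveI := isReduced_bc r hred k
  haveI : IsIso (Spec.map (CommRingCat.ofHom (algebraMap k k))) := by
    have : CommRingCat.ofHom (algebraMap k k) = 𝟙 (CommRingCat.of k) := rfl
    rw [this]
    infer_instance
  exact isReduced_of_isOpenImmersion
    (inv (pullback.fst r (Spec.map (CommRingCat.ofHom (algebraMap k k)))))

/-- `main4877` with the structure morphisms of the `Z i` given up to propositional equality. -/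
theorem main4877' {X S' : Scheme.{u}}
    (p : X ⟶ Spec (CommRingCat.of k)) (q : S' ⟶ Spec (CommRingCat.of k))
    {ι : Type u} (Z : ι → Scheme.{u}) (f : ∀ i, Z i ⟶ X)
    (r : ∀ i, Z i ⟶ Spec (CommRingCat.of k)) (hr : ∀ i, r i = f i ≫ p)
    (h : ∀ (V : X.Opens) (t : Γ(X, V)), (∀ i, (f i).app V t = 0) → t = 0) :
    ∀ (V : (pullback p q).Opens) (t : Γ(pullback p q, V)),
      (∀ i, (pullback.map (r i) q p q (f i) (𝟙 S') (𝟙 _)
        (by rw [hr i, Category.comp_id])
        ((Category.comp_id _).trans (Category.id_comp _).symm)).app V t = 0) → t = 0 := by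
  obtain rfl : r = fun i => f i ≫ p := funext hr
  exact SchDom.main4877 p q Z f h

theorem core {X S' : Scheme.{u}}
    (p : X ⟶ Spec (CommRingCat.of k)) (q : S' ⟶ Spec (CommRingCat.of k))
    {ι : Type u} (Z : ι → Scheme.{u}) (f : ∀ i, Z i ⟶ X)
    [∀ i, IsReduced (Z i)] [∀ i, IsReduced (pullback (f i ≫ p) q)] :
    Scheme.IdealSheafData.vanishingIdeal (TopologicalSpace.Closeds.closure (⋃ i, Set.range
      (pullback.map (f i ≫ p) q p q (f i) (𝟙 _) (𝟙 _) (Category.comp_id _)
        ((Category.comp_id _).trans (Category.id_comp _).symm)))) =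
      (Scheme.IdealSheafData.vanishingIdeal
        (TopologicalSpace.Closeds.closure (⋃ i, Set.range (f i)))).comap (pullback.fst p q) := by
  set C : Closeds X := Closeds.closure (⋃ i, Set.range (f i)) with hC
  set I := Scheme.IdealSheafData.vanishingIdeal C with hI
  haveI hYred : IsReduced I.subscheme := isReduced_vanishingIdeal_subscheme C
  have hrange : ∀ i, Set.range (f i) ⊆ (C : Set X) := fun i x hx =>
    subset_closure (Set.mem_iUnion.mpr ⟨i, hx⟩)
  have hle : ∀ i, I ≤ (f i).ker := fun i => vanishingIdeal_le_ker_of_isReduced (f i) C (hrange i)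
  let g : ∀ i, Z i ⟶ I.subscheme := fun i =>
    IsClosedImmersion.lift I.subschemeι (f i) (by rw [I.ker_subschemeι]; exact hle i)
  have hg : ∀ i, g i ≫ I.subschemeι = f i := fun i => IsClosedImmersion.lift_fac _ _ _
  -- density
  have hdense : Dense (⋃ i, Set.range (g i)) := by
    have hind : Topology.IsInducing I.subschemeι := I.subschemeι.isEmbedding.isInducing
    rw [dense_iff_closure_eq, hind.closure_eq_preimage_closure_image, Set.image_iUnion]
    have himg : ∀ i, I.subschemeι '' Set.range (g i) = Set.range (f i) := by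
      intro i
      rw [← Set.range_comp, ← hg i]
      rfl
    simp_rw [himg]
    rw [Set.eq_univ_iff_forall]
    intro y
    have hy : I.subschemeι y ∈ Set.range I.subschemeι := ⟨y, rfl⟩
    rw [I.range_subschemeι, Scheme.IdealSheafData.coe_support_vanishingIdeal] at hy
    exact hy
  have hsdY := sd_of_dense Z g hdense
  have hsdY' := main4877' (I.subschemeι ≫ p) q Z g (fun i => f i ≫ p)
    (fun i => by rw [← Category.assoc, hg i]) hsdY
  let j' : pullback (I.subschemeι ≫ p) q ⟶ pullback p q :=
    pullback.map _ _ _ _ I.subschemeι (𝟙 _) (𝟙 _) (by simp) (by simp)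
  have hpb : IsPullback j' (pullback.fst (I.subschemeι ≫ p) q) (pullback.fst p q) I.subschemeι := by
    refine IsPullback.of_right (h₁₂ := pullback.snd p q) (v₁₃ := q) (h₂₂ := p) ?_ ?_
      (IsPullback.of_hasPullback p q).flip
    · have : j' ≫ pullback.snd p q = pullback.snd (I.subschemeι ≫ p) q := by
        simp only [j', pullback.map, pullback.lift_fst, pullback.lift_snd, pullback.lift_fst_assoc,
        pullback.lift_snd_assoc, Category.assoc, Category.comp_id, hg]
      rw [this]
      exact (IsPullback.of_hasPullback (I.subschemeι ≫ p) q).flip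
    · simp only [j', pullback.map, pullback.lift_fst, pullback.lift_snd, pullback.lift_fst_assoc,
        pullback.lift_snd_assoc, Category.assoc, Category.comp_id, hg]
  have hker : I.comap (pullback.fst p q) = j'.ker := by
    unfold Scheme.IdealSheafData.comap
    rw [← hpb.isoPullback_hom_fst, Scheme.Hom.ker_comp_of_isIso]
  apply le_antisymm
  · rw [hker]
    have key := vanishingIdeal_le_ker_of_sd j' (fun i => pullback (f i ≫ p) q)
      (fun i => pullback.map (f i ≫ p) q (I.subschemeι ≫ p) q (g i) (𝟙 _) (𝟙 _)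
        (by rw [← Category.assoc, hg i, Category.comp_id])
        ((Category.comp_id _).trans (Category.id_comp _).symm)) hsdY'
    have hcomp : ∀ i, pullback.map (f i ≫ p) q (I.subschemeι ≫ p) q (g i) (𝟙 _) (𝟙 _)
        (by rw [← Category.assoc, hg i, Category.comp_id])
        ((Category.comp_id _).trans (Category.id_comp _).symm) ≫ j' =
        pullback.map (f i ≫ p) q p q (f i) (𝟙 _) (𝟙 _) (Category.comp_id _)
        ((Category.comp_id _).trans (Category.id_comp _).symm) := by
      intro i
      apply pullback.hom_ext <;>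
        simp only [j', pullback.map, pullback.lift_fst, pullback.lift_snd, pullback.lift_fst_assoc,
        pullback.lift_snd_assoc, Category.assoc, Category.comp_id, hg]
    simp_rw [hcomp] at key
    exact key
  · rw [← Scheme.IdealSheafData.le_support_iff_le_vanishingIdeal,
      Scheme.IdealSheafData.support_comap, TopologicalSpace.Closeds.closure_le]
    intro x hx
    obtain ⟨i, z', rfl⟩ := Set.mem_iUnion.mp hx
    show pullback.fst p q (pullback.map (f i ≫ p) q p q (f i) (𝟙 _) (𝟙 _) (Category.comp_id _)
        ((Category.comp_id _).trans (Category.id_comp _).symm) z') ∈ (I.support : Set X)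
    rw [Scheme.IdealSheafData.coe_support_vanishingIdeal]
    apply hrange i
    refine ⟨pullback.fst (f i ≫ p) q z', ?_⟩
    have e : pullback.map (f i ≫ p) q p q (f i) (𝟙 _) (𝟙 _) (Category.comp_id _)
        ((Category.comp_id _).trans (Category.id_comp _).symm) ≫ pullback.fst p q =
        pullback.fst (f i ≫ p) q ≫ f i := by
      simp only [pullback.map, pullback.lift_fst]
    have := congrArg (fun φ : pullback (f i ≫ p) q ⟶ X => φ z') e
    simpa using this.symm

theorem main4905 {X : Scheme.{u}}
    (p : X ⟶ Spec (CommRingCat.of k)) {ι : Type u} (Z : ι → Scheme.{u}) (f : ∀ i, Z i ⟶ X)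
    (hred : ∀ (i : ι) (z : Z i), FBase.IsGeomReducedAt (f i ≫ p) z)
    (k' : Type u) [Field k'] [Algebra k k'] :
    letI q : Spec (CommRingCat.of k') ⟶ Spec (CommRingCat.of k) := Spec.map (CommRingCat.ofHom (algebraMap k k'))
    letI f' : ∀ i, pullback (f i ≫ p) q ⟶ pullback p q :=
      fun i => pullback.map (f i ≫ p) q p q (f i) (𝟙 _) (𝟙 _) (Category.comp_id _) ((Category.comp_id _).trans (Category.id_comp _).symm)
    Scheme.IdealSheafData.vanishingIdeal (TopologicalSpace.Closeds.closure (⋃ i, Set.range (f' i))) =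
      (Scheme.IdealSheafData.vanishingIdeal (TopologicalSpace.Closeds.closure (⋃ i, Set.range (f i)))).comap
        (pullback.fst p q) := by
  haveI : ∀ i, IsReduced (Z i) := fun i => isReduced_of_geomRed (f i ≫ p) (hred i)
  haveI : ∀ i, IsReduced (pullback (f i ≫ p)
      (Spec.map (CommRingCat.ofHom (algebraMap k k')))) :=
    fun i => isReduced_bc (f i ≫ p) (hred i) k'
  exact core p (Spec.map (CommRingCat.ofHom (algebraMap k k'))) Z f

end Groth.Agent.Helper2.GeomRed
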